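/-
Matrices and certificates for the multiplier of the six-dimensional symplectic group of two elements.
-/
import Cfsg.Agent.SchurCert.Gen

set_option autoImplicit false
set_option maxRecDepth 100000

namespace CfsgLib.SpSixTwo

open CfsgLib.M23Coh (Step)

/-- Rows, packed in base three. -/
def gammaTab : List (List ℕ) :=
  [[0, 0, 0, 0, 0, 0, 0, 0],
   [6, 1, 162, 4374, 9, 1458, 243, 27],
   [18, 81, 1, 486, 6, 27, 4374, 729],
   [162, 18, 3, 729, 1, 4374, 54, 243],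
   [54, 2187, 243, 1, 1458, 18, 81, 6],
   [4374, 54, 1458, 3, 486, 81, 9, 1],
   [486, 729, 54, 9, 2187, 1, 6, 162],
   [1458, 486, 2187, 162, 27, 3, 1, 18],
   [3000, 281, 5190, 3732, 317, 3084, 533, 551],
   [5997, 560, 3729, 3081, 532, 5187, 550, 316],
   [5916, 551, 3732, 3810, 533, 3000, 523, 559],
   [3081, 290, 5187, 3003, 316, 5271, 560, 308],
   [3810, 533, 3000, 3084, 289, 5268, 559, 317],
   [5187, 308, 5919, 3729, 560, 3003, 524, 550],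
   [5268, 317, 5916, 3000, 559, 5190, 551, 307],
   [3729, 524, 3003, 3813, 290, 3081, 532, 560],
   [1791, 2115, 2222, 1881, 4406, 2246, 2218, 2043],
   [1305, 1143, 4436, 1791, 2246, 2248, 2222, 2115],
   [1386, 1152, 4433, 1062, 2245, 4435, 2249, 1872],
   [1872, 2124, 2219, 1152, 4405, 4433, 2245, 1800],
   [1143, 1881, 4406, 1071, 4432, 4436, 2246, 1791],
   [2115, 1395, 2246, 1143, 2218, 4432, 2248, 1881],
   [2034, 1386, 2249, 1872, 2219, 2245, 2221, 2124],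
   [1062, 1872, 4409, 1800, 4433, 2249, 2219, 2034],
   [4872, 947, 1595, 2442, 2694, 865, 2688, 1675],
   [2451, 1568, 838, 2697, 4641, 920, 4881, 866],
   [4881, 866, 1594, 2685, 2697, 838, 4875, 946],
   [2442, 1649, 839, 2454, 4638, 947, 2694, 1595],
   [4638, 1595, 1567, 2694, 4884, 839, 4872, 865],
   [2685, 920, 866, 2445, 2451, 946, 2697, 1676],
   [4629, 1676, 1568, 2451, 4881, 866, 2685, 1594],
   [2694, 839, 865, 2688, 2454, 919, 4884, 947],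
   [5373, 6129, 6345, 104, 5643, 98, 176, 94],
   [6345, 5643, 4185, 176, 3429, 94, 178, 184],
   [3915, 6345, 3429, 188, 5373, 176, 184, 104],
   [3429, 5373, 5643, 98, 3213, 178, 188, 176],
   [4158, 5616, 3456, 179, 3186, 175, 187, 185],
   [3186, 6102, 5616, 107, 5400, 179, 185, 95],
   [5616, 5400, 6372, 95, 3456, 97, 179, 175],
   [6102, 6372, 4158, 185, 5616, 95, 175, 103],
   [462, 3665, 354, 2935, 5851, 5123, 624, 384],
   [597, 5114, 627, 3656, 2936, 2926, 681, 705],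
   [678, 5123, 624, 2927, 2935, 5113, 708, 462],
   [381, 3656, 357, 3664, 5852, 2936, 597, 627],
   [435, 5852, 597, 2936, 5122, 5114, 705, 381],
   [624, 2927, 384, 3655, 3665, 2935, 600, 708],
   [705, 2936, 381, 2926, 3664, 5122, 627, 465],
   [354, 5843, 600, 3665, 5123, 2927, 678, 624],
   [2385, 4581, 1220, 980, 976, 4599, 2421, 1706],
   [4599, 2421, 1706, 976, 1948, 4527, 2331, 1708],
   [4518, 2412, 1709, 1705, 1949, 2340, 2304, 1951],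
   [2304, 4572, 1223, 1709, 977, 2412, 2394, 1949],
   [2412, 2394, 977, 979, 1705, 4608, 2340, 1709],
   [4572, 4608, 1949, 977, 1219, 4518, 2412, 1705],
   [4491, 4599, 1952, 1706, 1220, 2331, 2385, 1948],
   [2331, 2385, 980, 1708, 1706, 2421, 2313, 1952],
   [1506, 4943, 2755, 2837, 780, 768, 5023, 804],
   [795, 2594, 4700, 2512, 1533, 807, 2756, 1527],
   [1497, 5024, 2756, 2594, 777, 795, 2836, 1533],
   [804, 2513, 4699, 2755, 1536, 780, 4943, 798],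
   [1533, 2756, 2512, 2836, 1509, 777, 4942, 807],
   [768, 4781, 4943, 2513, 804, 798, 2837, 1524],
   [1524, 2837, 2513, 2593, 1506, 804, 2755, 1536],
   [777, 4700, 4942, 2756, 807, 771, 5024, 795]]

def axisTab : List ℕ := [1, 2, 4, 3, 6, 7, 5]

def liftTab : List ℕ := [43, 9, 52, 14, 39, 59, 37]

def spreadTab : List (ℕ × ℕ × ℕ) :=
  [(16, 59, 43), (7, 14, 9), (46, 39, 9), (44, 37, 9), (19, 39, 52), (53, 59, 14), (28, 59, 39), (30, 14, 16), (55, 39, 16), (32, 39, 7), (60, 59, 7), (34, 37, 7), (26, 52, 46), (21, 59, 46), (11, 37, 46), (40, 59, 19), (18, 39, 53), (23, 9, 30), (57, 39, 30), (62, 9, 55), (3, 52, 55), (20, 52, 32), (5, 37, 32), (25, 37, 60), (33, 59, 26), (63, 37, 26), (48, 37, 21), (38, 14, 40), (50, 37, 23), (13, 52, 57), (2, 59, 57), (10, 52, 62), (27, 37, 62), (49, 37, 20), (12, 9, 5), (6, 39, 33), (4, 37, 33), (54, 59, 13), (45, 39, 10), (47, 37, 10), (56, 9, 49),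 (35, 37, 6), (17, 39, 54), (22, 59, 45), (8, 37, 45), (31, 39, 56), (42, 9, 35), (24, 9, 17), (51, 37, 22), (1, 9, 8), (36, 59, 31), (61, 37, 24), (58, 9, 51), (15, 14, 1), (29, 39, 58), (41, 52, 29)]

def quadTab : List (List ℕ) := [[2, 4, 5, 6], [1, 3, 4, 5], [1, 2, 3, 6], [0, 3, 5, 6], [0, 2, 3, 4], [0, 1, 4, 6], [0, 1, 2, 5]]

def quadCode : List ℕ := [37, 23, 51, 8, 47, 27, 61]

def sepTab : List (List ℕ) := [[0, 1, 3], [0, 2, 6], [0, 4, 5], [1, 2, 4], [1, 5, 6], [2, 3, 5], [3, 4, 6]]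

def p2Gens : List (List ℕ) :=
  [[16, 44, 21, 10, 4, 29],
   [1, 2, 4, 8, 18, 32],
   [9, 2, 32, 8, 18, 4],
   [1, 2, 4, 10, 21, 34],
   [4, 2, 1, 38, 21, 11],
   [1, 2, 37, 41, 16, 32],
   [1, 2, 6, 10, 51, 32],
   [12, 2, 39, 38, 51, 45],
   [3, 2, 6, 8, 60, 34],
   [11, 13, 49, 27, 32, 9],
   [49, 44, 23, 5, 58, 60],
   [26, 44, 62, 13, 39, 49]]

def p2Rels_0 : List (List ℕ × List ℕ) :=
  [([0, 0], [4]),
   ([1, 0], [0, 1, 2, 3, 4, 6, 7]),
   ([1, 1], []),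
   ([2, 0], [0, 2, 4, 7, 8]),
   ([2, 1], [1, 2]),
   ([2, 2], []),
   ([3, 0], [0, 3, 4]),
   ([3, 1], [1, 3]),
   ([3, 2], [2, 3, 8]),
   ([3, 3], []),
   ([4, 0], [0, 4]),
   ([4, 1], [1, 4]),
   ([4, 2], [2, 4, 8]),
   ([4, 3], [3, 4]),
   ([4, 4], []),
   ([5, 0], [0, 5, 6]),
   ([5, 1], [1, 5]),
   ([5, 2], [2, 5, 6, 7]),
   ([5, 3], [3, 5, 6]),
   ([5, 4], [4, 5, 7, 8]),
   ([5, 5], []),
   ([6, 0], [0, 6, 7, 8]),
   ([6, 1], [1, 6]),
   ([6, 2], [2, 6, 8]),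
   ([6, 3], [3, 6]),
   ([6, 4], [4, 6, 8]),
   ([6, 5], [5, 6]),
   ([6, 6], []),
   ([7, 0], [0, 7, 8]),
   ([7, 1], [1, 7]),
   ([7, 2], [2, 7, 8]),
   ([7, 3], [3, 7, 8]),
   ([7, 4], [4, 7]),
   ([7, 5], [5, 7]),
   ([7, 6], [6, 7]),
   ([7, 7], []),
   ([8, 0], [0, 8]),
   ([8, 1], [1, 8]),
   ([8, 2], [2, 8]),
   ([8, 3], [3, 8]),
   ([8, 4], [4, 8]),
   ([8, 5], [5, 8]),
   ([8, 6], [6, 8]),
   ([8, 7], [7, 8]),
   ([8, 8], []),
   ([9, 0, 1, 3, 4, 5, 6, 7, 8], [0, 2, 4, 7, 9]),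
   ([9, 1, 2, 3, 4, 5, 6, 7, 8], [1, 2, 3, 4, 5, 8, 9]),
   ([9, 2, 3, 4, 5, 6, 7, 8], [1, 2, 3, 4, 6, 7, 8, 9]),
   ([9, 4, 5, 6, 7, 8], [0, 2, 5, 6, 8, 9]),
   ([9, 5, 7], [1, 7, 8, 9]),
   ([9, 6, 7, 8], [1, 2, 3, 4, 5, 6, 8, 9]),
   ([9, 7, 8], [2, 3, 4, 6, 7, 9]),
   ([9, 8], [2, 3, 4, 6, 8, 9]),
   ([10, 1, 2, 3, 4, 5, 6, 7, 8], [2, 3, 4, 5, 10]),
   ([10, 2, 3, 4, 5, 6, 7, 8], [1, 5, 6, 7, 10]),
   ([10, 3, 4, 5, 6, 7, 8], [4, 5, 6, 7, 8, 10]),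
   ([10, 4, 5], [3, 5, 7, 10]),
   ([10, 5, 7], [5, 7, 10]),
   ([10, 6, 7], [7, 10]),
   ([10, 7], [6, 10]),
   ([10, 8], [8, 10]),
   ([11, 0, 1, 2, 3, 4, 6, 7, 8], [0, 1, 2, 3, 11]),
   ([11, 1, 2, 3, 4, 6, 7, 8], [1, 8, 11]),
   ([11, 2, 3, 6, 7, 8], [2, 3, 6, 11]),
   ([11, 3, 6, 7], [1, 4, 6, 7, 11]),
   ([11, 4], [4, 7, 8, 11]),
   ([11, 6, 7, 8], [1, 3, 11]),
   ([11, 7, 8], [2, 3, 6, 7, 11]),
   ([11, 8], [8, 11])]

def p2Rels : List (List ℕ × List ℕ) :=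
  p2Rels_0

def p2Eqs_0 : List (List ℕ × List Step × List Step) :=
  [([0, 0, 0], [(0, false, 0), (10, false, 0)], [(0, false, 1)]),
   ([4, 4, 1], [(14, false, 0)], [(11, false, 1), (11, false, 0), (14, false, 1)]),
   ([10, 7, 7], [(59, false, 0), (59, false, 1), (27, false, 0)], [(35, false, 1)]),
   ([8, 0, 0], [(36, false, 0), (36, false, 1), (0, false, 0)], [(0, false, 1), (40, false, 0)]),
   ([3, 3, 0], [(9, false, 0)], [(6, false, 1), (6, false, 0), (13, false, 2), (9, false, 1), (14, false, 1)]),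
   ([3, 3, 2], [(9, false, 0)], [(8, false, 1), (8, false, 0), (39, false, 2), (9, false, 1), (44, false, 1)]),
   ([3, 2, 2], [(8, false, 0), (38, false, 2), (8, false, 1), (5, false, 0), (44, false, 1)], [(5, false, 1)]),
   ([4, 4, 2], [(14, false, 0)], [(12, false, 1), (12, false, 0), (40, false, 2), (14, false, 1), (44, false, 1)]),
   ([5, 5, 0], [(20, false, 0)], [(15, false, 1), (15, false, 0), (26, false, 2), (20, false, 1), (27, false, 1)]),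
   ([5, 3, 3], [(18, false, 0), (24, false, 2), (18, false, 1), (9, false, 0), (27, false, 1)], [(9, false, 1)]),
   ([6, 6, 2], [(27, false, 0)], [(23, false, 1), (23, false, 0), (42, false, 2), (27, false, 1), (44, false, 1)]),
   ([7, 7, 0], [(35, false, 0)], [(28, false, 1), (28, false, 0), (43, false, 2), (35, false, 1), (44, false, 1)]),
   ([10, 6, 7, 6, 7], [(58, false, 0), (58, false, 1), (35, false, 0)], [(34, false, 2), (27, false, 1), (35, false, 1)]),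
   ([3, 2, 1], [(8, false, 0), (37, false, 2), (7, false, 1), (4, false, 0)], [(4, false, 1), (7, false, 0), (8, false, 1)]),
   ([5, 0, 0], [(15, false, 0), (21, false, 2), (15, false, 1), (0, false, 0), (27, false, 2)], [(0, false, 1), (19, false, 0)]),
   ([5, 3, 1], [(18, false, 0), (22, false, 2), (16, false, 1), (7, false, 0)], [(7, false, 1), (16, false, 0), (18, false, 1)]),
   ([7, 0, 0], [(28, false, 0), (36, false, 2), (28, false, 1), (0, false, 0), (44, false, 2)], [(0, false, 1), (32, false, 0)]),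
   ([5, 2, 1], [(17, false, 0), (29, false, 3), (22, false, 2), (16, false, 1), (4, false, 0)], [(4, false, 1), (16, false, 0), (17, false, 1)]),
   ([5, 5, 2], [(20, false, 0)], [(17, false, 1), (17, false, 0), (33, false, 3), (26, false, 2), (20, false, 1), (34, false, 2), (27, false, 1), (35, false, 1)]),
   ([5, 5, 4], [(20, false, 0)], [(19, false, 1), (19, false, 0), (41, false, 3), (33, false, 2), (20, false, 1), (43, false, 2), (35, false, 1), (44, false, 1)])]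

def p2Eqs_1 : List (List ℕ × List Step × List Step) :=
  [([5, 4, 4], [(19, false, 0), (40, false, 3), (32, false, 2), (19, false, 1), (14, false, 0), (43, false, 2), (35, false, 1), (44, false, 1)], [(14, false, 1)]),
   ([6, 0, 0], [(21, false, 0), (36, false, 3), (28, false, 2), (21, false, 1), (0, false, 0), (43, false, 3), (35, false, 2), (44, false, 2)], [(0, false, 1), (25, false, 0)]),
   ([5, 2, 2], [(17, false, 0), (30, false, 3), (23, false, 2), (17, false, 1), (5, false, 0), (34, false, 2), (27, false, 1), (43, false, 2), (35, false, 1), (44, false, 1)], [(5, false, 1)]),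
   ([9, 5, 7, 5, 7], [(49, false, 0), (49, false, 3), (37, false, 2), (29, false, 1), (2, false, 0), (43, false, 1), (35, false, 0), (44, false, 0)], [(33, false, 2), (20, false, 1), (35, false, 1)]),
   ([11, 6, 7, 8, 6, 7, 8], [(66, false, 0), (66, false, 2), (7, false, 1), (2, false, 0), (9, false, 0)], [(42, false, 3), (34, false, 2), (27, false, 1), (43, false, 2), (35, false, 1), (44, false, 1)]),
   ([6, 3, 0], [(24, false, 0), (21, false, 1), (6, false, 0)], [(6, false, 1), (21, false, 0), (39, false, 3), (31, false, 2), (24, false, 1), (44, false, 4), (32, false, 3), (25, false, 2), (43, false, 4)]),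
   ([2, 2, 0], [(5, false, 0)], [(3, false, 1), (3, false, 0), (38, false, 4), (30, false, 3), (12, false, 2), (5, false, 1), (43, false, 2), (44, false, 3), (40, false, 3), (32, false, 2), (14, false, 1), (43, false, 2), (35, false, 1), (44, false, 1)]),
   ([2, 0, 0], [(3, false, 0), (36, false, 4), (28, false, 3), (10, false, 2), (3, false, 1), (0, false, 0), (12, false, 0), (40, false, 2), (14, false, 1), (43, false, 1), (44, false, 2), (32, false, 1), (35, false, 2), (44, false, 2)], [(0, false, 1)]),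
   ([10, 6, 7, 4, 5], [(58, false, 0), (56, false, 1), (31, false, 0), (41, false, 2), (33, false, 1), (43, false, 3), (35, false, 2)], [(32, false, 2), (25, false, 1), (43, false, 3), (41, false, 4), (33, false, 3), (26, false, 2), (56, false, 0), (58, false, 3), (60, false, 4), (35, false, 2)]),
   ([10, 4, 5, 4, 5], [(56, false, 0), (56, false, 3), (31, false, 2), (18, false, 1), (9, false, 0), (41, false, 3), (33, false, 2), (26, false, 1), (20, false, 0), (43, false, 2), (35, false, 1)], [(19, false, 2), (14, false, 1), (41, false, 3), (33, false, 2), (20, false, 1), (59, false, 0), (60, false, 1)]),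
   ([11, 6, 7, 8, 4], [(66, false, 0), (65, false, 2)], [(40, false, 3), (32, false, 2), (25, false, 1), (43, false, 3), (44, false, 4), (44, true, 4), (65, false, 0), (66, false, 3), (68, false, 5), (37, false, 2), (29, false, 1), (11, false, 0), (39, false, 3), (31, false, 2), (13, false, 1), (44, false, 4)]),
   ([9, 8, 8], [(52, false, 0), (52, false, 5), (38, false, 4), (23, false, 3), (12, false, 2), (8, false, 1), (5, false, 0), (40, false, 1), (44, false, 2), (44, false, 3), (24, false, 2), (13, false, 1), (9, false, 0), (25, false, 1), (14, false, 0), (42, false, 1), (27, false, 0), (44, false, 0)], [(44, false, 1)]),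
   ([11, 7, 8, 7, 8], [(67, false, 0), (67, false, 4), (30, false, 3), (23, false, 2), (8, false, 1), (5, false, 0), (42, false, 1), (44, false, 2), (39, false, 3), (31, false, 2), (24, false, 1), (9, false, 0), (44, false, 2), (34, false, 1), (27, false, 0), (35, false, 0)], [(43, false, 2), (35, false, 1), (44, false, 1)]),
   ([9, 8, 5, 7], [(52, false, 0), (49, false, 5), (37, false, 4), (22, false, 3), (11, false, 2), (7, false, 1), (4, false, 0), (43, false, 5), (44, false, 6)], [(41, false, 1), (43, false, 2), (49, false, 0), (52, false, 3), (38, false, 2), (30, false, 1), (44, false, 3), (31, false, 2), (40, false, 4), (32, false, 3), (42, false, 5), (34, false, 4), (44, false, 6)]),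
   ([3, 1, 0], [(7, false, 0), (6, false, 1), (1, false, 0), (31, false, 6), (24, false, 5), (13, false, 4), (9, false, 3), (40, false, 6), (32, false, 5), (25, false, 4), (14, false, 3), (43, false, 4), (44, false, 5)], [(1, false, 1), (6, false, 0), (11, false, 2), (7, false, 1), (12, false, 3), (8, false, 2), (40, false, 4), (44, false, 5), (13, false, 4), (9, false, 3), (14, false, 3)]),
   ([11, 3, 6, 7, 3, 6, 7], [(64, false, 0), (64, false, 4), (29, false, 3), (22, false, 2), (11, false, 1), (2, false, 0), (32, false, 2), (25, false, 1), (14, false, 0), (43, false, 1), (42, false, 2), (34, false, 1), (27, false, 0), (43, false, 1), (35, false, 0)], [(31, false, 3), (24, false, 2), (9, false, 1), (42, false, 3), (34, false, 2), (27, false, 1), (43, false, 2), (35, false, 1), (68, false, 0)]),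
   ([10, 5, 7, 4, 5], [(57, false, 0), (56, false, 2), (31, false, 1), (18, false, 0), (41, false, 4), (33, false, 3), (26, false, 2), (20, false, 1), (43, false, 3), (35, false, 2)], [(32, false, 2), (19, false, 1), (43, false, 4), (35, false, 3), (41, false, 3), (20, false, 2), (35, true, 2), (20, true, 2), (56, false, 0), (57, false, 3), (59, false, 5), (60, false, 6), (33, false, 2), (20, false, 1), (35, false, 1)]),
   ([5, 1, 0], [(16, false, 0), (15, false, 1), (1, false, 0), (33, false, 6), (26, false, 5), (34, false, 7), (27, false, 6)], [(1, false, 1), (15, false, 0), (22, false, 2), (16, false, 1), (23, false, 3), (17, false, 2), (34, false, 5), (27, false, 4), (39, false, 5), (31, false, 4), (18, false, 3), (44, false, 7), (32, false, 6), (25, false, 5), (19, false, 4), (42, false, 7), (34, false, 6), (44, false, 8), (35, false, 7), (27, false, 6)]),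
   ([11, 7, 8, 1, 2, 3, 4, 6, 7, 8], [(67, false, 0), (62, false, 4), (29, false, 3), (22, false, 2), (7, false, 1), (4, false, 0)], [(37, false, 2), (29, false, 1), (38, false, 3), (30, false, 2), (44, false, 4), (31, false, 3), (40, false, 5), (32, false, 4), (42, false, 6), (34, false, 5), (43, false, 7), (35, false, 6), (44, false, 6), (44, true, 6), (35, true, 6), (43, true, 7), (62, false, 0), (67, false, 2), (38, false, 1), (39, false, 2), (42, false, 3), (43, false, 4)]),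
   ([9, 6, 7, 8, 5, 7], [(50, false, 0), (49, false, 7), (37, false, 6), (22, false, 5), (16, false, 4), (11, false, 3), (7, false, 2), (4, false, 1), (2, false, 0), (43, false, 5), (44, false, 6)], [(41, false, 3), (33, false, 2), (26, false, 1), (43, false, 4), (35, false, 3), (35, true, 3), (34, true, 2), (49, false, 0), (50, false, 3), (37, false, 2), (29, false, 1), (2, false, 0), (38, false, 1), (30, false, 0), (44, false, 2), (31, false, 1), (40, false, 3), (32, false, 2), (41, false, 4), (33, false, 3), (42, false, 5), (34, false, 4), (44, false, 6)])]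

def p2Eqs_2 : List (List ℕ × List Step × List Step) :=
  [([10, 3, 4, 5, 6, 7, 8, 3, 4, 5, 6, 7, 8], [(55, false, 0), (55, false, 5), (40, false, 4), (32, false, 3), (25, false, 2), (19, false, 1), (14, false, 0), (42, false, 2), (34, false, 1), (44, false, 3), (35, false, 2), (41, false, 2), (26, false, 1), (20, false, 0), (42, false, 1), (27, false, 0), (43, false, 0), (44, false, 1)], [(39, false, 6), (31, false, 5), (24, false, 4), (18, false, 3), (13, false, 2), (9, false, 1), (27, false, 3), (44, false, 4), (32, false, 3), (19, false, 2), (14, false, 1), (43, false, 3), (35, false, 2), (41, false, 2), (20, false, 1), (42, false, 1), (43, false, 2), (44, false, 3), (58, false, 0)]),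
   ([1, 0, 0], [(1, false, 0), (28, false, 6), (21, false, 5), (10, false, 4), (6, false, 3), (3, false, 2), (1, false, 1), (0, false, 0), (11, false, 0), (12, false, 1), (39, false, 3), (13, false, 2), (40, false, 4), (14, false, 3), (42, false, 3), (43, false, 4), (38, false, 5), (30, false, 4), (23, false, 3), (8, false, 2), (5, false, 1), (42, false, 2), (44, false, 3), (44, false, 4), (32, false, 3), (25, false, 2), (43, false, 4), (43, false, 5), (35, false, 4), (44, false, 4), (24, false, 3), (13, false, 2), (9, false, 1), (25, false, 2), (14, false, 1), (40, false, 2), (25, false, 1), (44, false, 3), (27, false, 2), (43, false, 3), (35, false, 2), (44, false, 2)], [(0, false, 1)]),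
   ([11, 6, 7, 8, 0, 1, 2, 3, 4, 6, 7, 8], [(66, false, 0), (61, false, 2), (6, false, 1), (1, false, 0), (31, false, 6), (24, false, 5), (13, false, 4), (9, false, 3), (40, false, 6), (32, false, 5), (25, false, 4), (14, false, 3), (43, false, 4), (44, false, 5), (29, false, 4), (22, false, 3), (4, false, 2), (2, false, 1), (30, false, 3), (23, false, 2), (5, false, 1), (43, false, 2), (44, false, 3), (31, false, 2), (24, false, 1)], [(36, false, 3), (28, false, 2), (21, false, 1), (43, false, 4), (35, false, 3), (44, false, 3), (37, false, 3), (22, false, 2), (38, false, 4), (23, false, 3), (44, false, 5), (24, false, 4), (25, false, 5), (42, false, 7), (27, false, 6), (43, false, 6), (44, false, 7), (44, true, 7), (44, true, 6), (35, true, 6), (43, true, 7), (27, true, 6), (34, true, 7), (42, true, 8), (61, false, 0), (66, false, 4), (67, false, 6), (68, false, 10), (7, false, 3), (4,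 false, 2), (2, false, 1), (9, false, 2), (5, false, 1)]),
   ([9, 5, 7, 0, 1, 3, 4, 5, 6, 7, 8], [(49, false, 0), (45, false, 3), (36, false, 2), (28, false, 1), (1, false, 0), (35, false, 6), (44, false, 6), (23, false, 5), (12, false, 4), (8, false, 3), (5, false, 2), (40, false, 3), (44, false, 4), (40, false, 5), (25, false, 4), (14, false, 3), (44, false, 4)], [(28, false, 2), (15, false, 1), (37, false, 5), (29, false, 4), (22, false, 3), (16, false, 2), (39, false, 6), (31, false, 5), (24, false, 4), (18, false, 3), (27, false, 5), (44, false, 6), (32, false, 5), (19, false, 4), (43, false, 7), (35, false, 6), (41, false, 6), (20, false, 5), (42, false, 5), (43, false, 6), (44, false, 7), (44, true, 7), (43, true, 6), (35, true, 6), (43, true, 7), (20, true, 5), (26, true, 6), (33, true, 7), (41, true, 8), (45, false, 0), (49, false, 4), (51, false, 7), (29, false, 3), (11, false,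 2), (4, false, 1), (35, false, 4), (38, false, 4), (12, false, 3), (5, false, 2), (44, false, 3), (13, false, 2), (14, false, 3)]),
   ([9, 5, 7, 4, 5, 6, 7, 8], [(49, false, 0), (48, false, 3), (36, false, 2), (28, false, 1), (1, false, 0), (35, false, 6), (44, false, 6), (23, false, 5), (12, false, 4), (8, false, 3), (5, false, 2), (40, false, 3), (44, false, 4), (41, false, 5), (26, false, 4), (42, false, 6), (27, false, 5), (44, false, 5)], [(32, false, 2), (19, false, 1), (43, false, 4), (35, false, 3), (41, false, 3), (20, false, 2), (42, false, 2), (43, false, 3), (44, false, 4), (44, true, 4), (43, true, 3), (35, true, 3), (43, true, 4), (20, true, 2), (26, true, 3), (33, true, 4), (41, true, 5), (48, false, 0), (49, false, 5), (51, false, 8), (37, false, 4), (22, false, 3), (16, false, 2), (4, false, 1), (43, false, 5), (44, false, 6), (30, false, 5), (23, false, 4), (17, false,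 3), (5, false, 2), (34, false, 4), (27, false, 3), (43, false, 4), (35, false, 3), (44, false, 3), (18, false, 2), (25, false, 4), (19, false, 3), (42, false, 6), (34, false, 5), (44, false, 7), (34, false, 6), (27, false, 5), (35, false, 5)]),
   ([9, 4, 5, 6, 7, 8, 4, 5, 6, 7, 8], [(48, false, 0), (48, false, 5), (36, false, 4), (21, false, 3), (15, false, 2), (3, false, 1), (0, false, 0), (12, false, 0), (40, false, 2), (14, false, 1), (43, false, 1), (44, false, 2), (33, false, 1), (34, false, 2), (34, false, 3), (27, false, 2), (35, false, 2), (44, false, 2), (17, false, 1), (5, false, 0), (33, false, 2), (26, false, 1), (20, false, 0), (34, false, 1), (27, false, 0)], [(40, false, 5), (32, false, 4), (25, false, 3), (19, false, 2), (14, false, 1), (42, false, 3), (34, false, 2), (44, false, 4), (35, false, 3), (41, false, 3), (26, false, 2), (20, false, 1), (42, false, 2), (27, false,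 1), (43, false, 1), (44, false, 2), (44, true, 2), (51, false, 0), (52, false, 5), (30, false, 4), (23, false, 3), (12, false, 2), (8, false, 1), (5, false, 0), (40, false, 1), (44, false, 2), (43, false, 3), (44, false, 4), (31, false, 3), (24, false, 2), (13, false, 1), (9, false, 0), (40, false, 3), (32, false, 2), (25, false, 1), (14, false, 0), (43, false, 1), (44, false, 2), (34, false, 1), (27, false, 0)]),
   ([11, 3, 6, 7, 0, 1, 2, 3, 4, 6, 7, 8], [(64, false, 0), (61, false, 4), (28, false, 3), (21, false, 2), (10, false, 1), (1, false, 0), (32, false, 6), (25, false, 5), (14, false, 4), (43, false, 5), (42, false, 6), (34, false, 5), (27, false, 4), (43, false, 5), (35, false, 4), (44, false, 4), (37, false, 5), (29, false, 4), (7, false, 3), (4, false, 2), (2, false, 1), (38, false, 4), (30, false, 3), (8, false, 2), (5, false, 1), (43, false, 2), (44, false, 3), (39, false,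 3), (31, false, 2), (9, false, 1), (44, false, 2)], [(28, false, 3), (21, false, 2), (6, false, 1), (43, false, 6), (35, false, 5), (44, false, 5), (22, false, 4), (11, false, 3), (7, false, 2), (23, false, 5), (12, false, 4), (8, false, 3), (40, false, 5), (44, false, 6), (39, false, 7), (24, false, 6), (13, false, 5), (9, false, 4), (40, false, 6), (25, false, 5), (14, false, 4), (44, false, 5), (27, false, 4), (14, true, 4), (35, true, 5), (27, true, 5), (34, true, 6), (44, true, 7), (9, true, 4), (13, true, 5), (24, true, 6), (31, true, 7), (39, true, 8), (61, false, 0), (64, false, 4), (65, false, 8), (67, false, 11), (7, false, 3), (4, false, 2), (2, false, 1), (32, false, 5), (25, false, 4), (14, false, 3), (43, false, 4), (43, false, 5), (35, false, 4), (44, false, 4), (23, false, 3), (8, false, 2), (5, false, 1), (42, false, 2), (44, false, 3), (24, false, 2), (9, false, 1), (27,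 false, 1)]),
   ([9, 6, 7, 8, 4, 5, 6, 7, 8], [(50, false, 0), (48, false, 7), (36, false, 6), (21, false, 5), (15, false, 4), (10, false, 3), (6, false, 2), (3, false, 1), (1, false, 0), (30, false, 6), (23, false, 5), (12, false, 4), (8, false, 3), (5, false, 2), (40, false, 3), (44, false, 4), (43, false, 5), (44, false, 6), (32, false, 5), (25, false, 4), (14, false, 3), (43, false, 4), (43, false, 5), (35, false, 4), (44, false, 4), (24, false, 3), (9, false, 2), (25, false, 2), (40, false, 4), (25, false, 3), (14, false, 2), (44, false, 3), (26, false, 2), (27, false, 3), (44, false, 5), (30, false, 4), (23, false, 3), (17, false, 2), (34, false, 5), (27, false, 4), (43, false, 5), (35, false, 4), (44, false, 4), (20, false, 3)], [(40, false, 3), (32, false, 2), (25, false, 1), (43, false, 3), (44, false, 4), (33, false, 3), (26, false, 2), (34, false, 4), (27, false, 3), (35, false,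 3), (44, true, 3), (35, true, 3), (43, true, 4), (27, true, 3), (34, true, 4), (42, true, 5), (48, false, 0), (50, false, 5), (52, false, 12), (37, false, 4), (22, false, 3), (16, false, 2), (4, false, 1), (38, false, 5), (23, false, 4), (17, false, 3), (5, false, 2), (34, false, 4), (27, false, 3), (44, false, 4), (31, false, 3), (18, false, 2), (40, false, 6), (32, false, 5), (25, false, 4), (19, false, 3), (42, false, 6), (34, false, 5), (44, false, 7), (35, false, 6), (41, false, 6), (26, false, 5), (20, false, 4), (42, false, 5), (27, false, 4), (44, false, 4), (12, false, 3), (8, false, 2), (40, false, 4), (44, false, 5), (13, false, 4), (9, false, 3), (14, false, 3)])]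

def p2Eqs : List (List ℕ × List Step × List Step) :=
  p2Eqs_0 ++ p2Eqs_1 ++ p2Eqs_2

def p2D_0 : List (List ℕ) :=
  [[0, 0, 0, 0, 0, 0, 0, 0, 0, 0, 0, 0, 0, 0, 0, 0, 0, 0, 0, 0, 0, 0, 0, 0, 0, 0, 0, 0, 0, 0, 0, 0, 0, 0, 0, 0, 0, 0, 0, 0, 0, 0, 0, 0, 0, 0, 0, 0, 0, 0, 0, 0, 0, 0, 0, 0, 0, 0, 0, 0, 0, 0, 0, 0, 0, 0, 0, 0, 0],
   [0, 0, 0, 0, 0, 0, 0, 0, 0, 0, 0, 0, 0, 0, 0, 0, 0, 0, 0, 0, 0, 0, 0, 0, 0, 0, 0, 0, 0, 0, 0, 0, 0, 0, 0, 0, 0, 0, 0, 0, 0, 0, 0, 0, 0, 0, 0, 0, 0, 0, 0, 0, 0, 0, 0, 0, 0, 0, 0, 0, 0, 0, 0, 0, 0, 0, 0, 0, 0],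
   [0, 0, 0, 0, 0, 0, 0, 0, 0, 0, 0, 0, 0, 0, 0, 0, 0, 0, 0, 0, 0, 0, 0, 0, 0, 0, 0, 0, 0, 0, 0, 0, 0, 0, 0, 0, 0, 0, 0, 0, 0, 0, 0, 0, 0, 0, 0, 0, 0, 0, 0, 0, 0, 0, 0, 0, 0, 0, 0, 1, 0, 0, 0, 0, 0, 1, 0, 1, 0],
   [0, 0, 0, 0, 0, 0, 0, 0, 0, 0, 0, 0, 0, 0, 0, 0, 0, 0, 0, 0, 0, 0, 0, 0, 0, 0, 0, 0, 0, 0, 0, 0, 0, 0, 0, 0, 0, 0, 0, 0, 0, 0, 0, 0, 0, 0, 0, 0, 0, 0, 0, 0, 0, 0, 0, 0, 0, 0, 0, 0, 0, 0, 0, 0, 0, 0, 0, 0, 0],
   [0, 0, 0, 0, 0, 0, 0, 0, 0, 0, 0, 0, 0, 0, 0, 0, 0, 0, 0, 0, 0, 0, 0, 0, 0, 0, 0, 0, 0, 0, 0, 0, 0, 0, 0, 0, 0, 0, 0, 0, 0, 0, 0, 0, 0, 0, 0, 0, 0, 0, 0, 0, 1, 0, 0, 0, 0, 0, 1, 1, 0, 0, 0, 0, 0, 1, 0, 1, 0],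
   [0, 0, 0, 0, 0, 0, 0, 0, 0, 0, 0, 0, 0, 0, 0, 0, 0, 0, 0, 0, 0, 0, 0, 0, 0, 0, 0, 0, 0, 0, 0, 0, 0, 0, 0, 0, 0, 0, 0, 0, 0, 0, 0, 0, 0, 0, 0, 0, 0, 0, 0, 0, 0, 0, 0, 0, 0, 0, 0, 0, 0, 0, 0, 0, 0, 0, 0, 0, 0],
   [0, 0, 0, 0, 0, 0, 0, 0, 0, 0, 0, 0, 0, 0, 0, 0, 0, 0, 0, 0, 0, 0, 0, 0, 0, 0, 0, 0, 0, 0, 0, 0, 0, 0, 0, 0, 0, 0, 0, 0, 0, 0, 0, 0, 0, 0, 0, 0, 0, 0, 0, 0, 0, 0, 0, 0, 0, 0, 1, 0, 0, 0, 0, 0, 0, 0, 0, 0, 0],
   [0, 0, 0, 0, 0, 0, 0, 0, 0, 0, 0, 0, 0, 0, 0, 0, 0, 0, 0, 0, 0, 0, 0, 0, 0, 0, 0, 0, 0, 0, 0, 0, 0, 0, 0, 0, 0, 0, 0, 0, 0, 0, 0, 0, 0, 0, 0, 0, 0, 0, 0, 0, 0, 0, 0, 0, 0, 0, 1, 1, 0, 0, 0, 0, 0, 0, 0, 0, 0],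
   [0, 0, 0, 0, 0, 0, 0, 0, 0, 0, 0, 0, 0, 0, 0, 0, 0, 0, 0, 0, 0, 0, 0, 0, 0, 0, 0, 0, 0, 0, 0, 0, 0, 0, 0, 0, 0, 0, 0, 0, 0, 0, 0, 0, 0, 0, 0, 0, 0, 0, 0, 0, 0, 0, 0, 0, 0, 0, 1, 1, 0, 0, 0, 0, 0, 1, 0, 0, 0]]

def p2D : List (List ℕ) :=
  p2D_0

def p2Sol_0 : List (ℕ × List (ℕ × ℕ)) :=
  [(0, [(0, 1), (3, 1), (6, 1), (9, 1), (11, 1), (16, 1), (22, 1), (26, 1), (27, 1), (28, 1), (31, 1), (33, 1), (34, 1), (36, 1), (37, 1), (38, 1), (39, 1), (40, 1), (41, 1), (43, 1), (45, 1), (46, 1)]),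
   (1, [(0, 1), (2, 1), (3, 1), (4, 1), (6, 1), (7, 1), (8, 1), (11, 1), (12, 1), (13, 1), (16, 1), (21, 1), (22, 1), (24, 1), (25, 1), (26, 1), (27, 1), (28, 1), (29, 1), (32, 1), (35, 1), (37, 1), (39, 1), (40, 1), (41, 1), (43, 1), (44, 1), (47, 1)]),
   (1, [(6, 1), (7, 1), (8, 1), (9, 1), (10, 1), (12, 1), (17, 1), (18, 1), (19, 1), (20, 1), (25, 1), (29, 1), (33, 1), (35, 1), (36, 1), (38, 1)]),
   (0, [(2, 1), (3, 1), (5, 1), (6, 1), (7, 1), (10, 1), (13, 1), (17, 1), (18, 1), (19, 1), (20, 1), (21, 1), (22, 1), (25, 1), (26, 1), (27, 1), (28, 1), (29, 1), (30, 1), (31, 1), (32, 1), (33, 1), (37, 1), (38, 1), (39, 1), (40, 1), (42, 1), (43, 1), (44, 1), (47, 1)]),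
   (0, [(0, 1), (3, 1), (4, 1), (5, 1), (6, 1), (7, 1), (9, 1), (10, 1), (11, 1), (21, 1), (24, 1), (25, 1), (26, 1), (27, 1), (30, 1), (35, 1), (38, 1)]),
   (0, [(0, 1), (2, 1), (3, 1), (6, 1), (7, 1), (8, 1), (11, 1), (12, 1), (18, 1), (19, 1), (20, 1), (21, 1), (22, 1), (27, 1), (29, 1), (32, 1), (33, 1), (34, 1), (36, 1), (38, 1)]),
   (0, [(0, 1), (3, 1), (7, 1), (9, 1), (16, 1), (18, 1), (19, 1), (22, 1), (26, 1), (28, 1), (29, 1), (31, 1), (33, 1), (34, 1), (37, 1), (38, 1), (39, 1), (40, 1), (41, 1), (43, 1), (44, 1), (46, 1), (47, 1)]),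
   (0, [(2, 1), (4, 1), (5, 1), (7, 1), (9, 1), (10, 1), (11, 1), (12, 1), (13, 1), (15, 1), (24, 1), (30, 1), (35, 1)]),
   (1, [(2, 1), (3, 1), (4, 1), (6, 1), (9, 1), (11, 1), (14, 1), (15, 1), (18, 1), (19, 1), (26, 1), (27, 1), (28, 1), (29, 1), (31, 1), (32, 1), (33, 1), (38, 1), (40, 1), (42, 1), (46, 1)]),
   (0, [(2, 1), (4, 1), (7, 1), (12, 1), (20, 1), (25, 1), (26, 1), (29, 1), (31, 1), (32, 1), (36, 1)]),
   (0, [(0, 1)]),
   (1, [(2, 1), (3, 1), (12, 1), (13, 1), (15, 1), (17, 1), (26, 1), (30, 1), (31, 1), (32, 1)]),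
   (1, [(2, 1), (3, 1), (4, 1), (8, 1), (10, 1), (11, 1), (12, 1), (14, 1), (15, 1), (25, 1), (26, 1), (27, 1), (28, 1), (29, 1), (31, 1), (32, 1), (34, 1), (40, 1), (42, 1), (46, 1)]),
   (0, [(2, 1), (12, 1), (25, 1), (26, 1), (31, 1), (32, 1)]),
   (0, [(2, 1), (4, 1), (12, 1), (25, 1), (26, 1), (31, 1), (32, 1)]),
   (1, [(3, 1), (8, 1), (13, 1), (16, 1), (17, 1), (19, 1), (20, 1), (21, 1), (25, 1), (29, 1), (30, 1), (31, 1), (32, 1), (36, 1), (37, 1), (40, 1), (43, 1), (44, 1)]),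
   (1, [(2, 1), (3, 1), (5, 1), (6, 1), (8, 1), (10, 1), (11, 1), (26, 1), (30, 1), (31, 1), (32, 1), (38, 1), (39, 1)]),
   (0, [(0, 1), (3, 1), (6, 1), (7, 1), (10, 1), (12, 1), (15, 1), (18, 1), (21, 1), (22, 1), (25, 1), (26, 1), (27, 1), (28, 1), (36, 1), (37, 1)]),
   (0, [(2, 1), (4, 1), (7, 1), (8, 1), (9, 1), (10, 1), (11, 1), (12, 1), (25, 1), (29, 1), (36, 1), (40, 1)]),
   (0, [(0, 1), (2, 1), (3, 1), (4, 1), (5, 1), (6, 1), (8, 1), (9, 1), (10, 1), (11, 1), (12, 1), (13, 1), (14, 1), (17, 1), (18, 1), (19, 1), (20, 1), (21, 1), (25, 1), (26, 1), (30, 1), (31, 1), (32, 1), (33, 1), (34, 1), (38, 1), (42, 1), (46, 1)]),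
   (1, [(2, 1), (6, 1), (7, 1), (9, 1), (10, 1), (11, 1), (13, 1), (15, 1), (19, 1), (20, 1), (23, 1), (25, 1), (29, 1), (33, 1), (35, 1), (36, 1), (38, 1)]),
   (1, [(0, 1), (4, 1), (9, 1), (11, 1), (12, 1), (15, 1), (20, 1), (21, 1), (25, 1), (34, 1), (42, 1), (46, 1)]),
   (0, [(15, 1)]),
   (0, [(3, 1), (5, 1), (7, 1), (11, 1), (12, 1), (13, 1), (14, 1), (17, 1), (18, 1), (19, 1), (20, 1), (22, 1), (27, 1), (28, 1), (29, 1), (30, 1), (31, 1), (32, 1), (33, 1), (34, 1), (38, 1), (40, 1), (42, 1), (46, 1)]),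
   (1, [(2, 1), (3, 1), (5, 1), (6, 1), (8, 1), (9, 1), (10, 1), (13, 1), (15, 1), (17, 1), (18, 1), (19, 1), (26, 1), (30, 1), (31, 1), (32, 1), (33, 1), (38, 1)]),
   (0, [(0, 1), (3, 1), (5, 1), (6, 1), (7, 1), (13, 1), (14, 1), (17, 1), (18, 1), (19, 1), (20, 1), (21, 1), (26, 1), (28, 1), (29, 1), (30, 1), (31, 1), (32, 1), (33, 1), (34, 1), (38, 1), (40, 1), (42, 1), (46, 1)]),
   (1, [(2, 1), (3, 1), (5, 1), (6, 1), (10, 1), (13, 1), (15, 1), (17, 1), (18, 1), (19, 1), (26, 1), (30, 1), (31, 1), (32, 1), (33, 1), (38, 1)]),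
   (1, [(2, 1), (3, 1), (5, 1), (6, 1), (8, 1), (10, 1), (13, 1), (15, 1), (17, 1), (18, 1), (19, 1), (26, 1), (30, 1), (31, 1), (32, 1), (33, 1), (38, 1)]),
   (0, [(0, 1), (3, 1), (5, 1), (6, 1), (13, 1), (14, 1), (16, 1), (17, 1), (18, 1), (19, 1), (26, 1), (28, 1), (29, 1), (30, 1), (31, 1), (32, 1), (33, 1), (34, 1), (38, 1), (40, 1), (42, 1), (46, 1)]),
   (0, [(15, 1), (17, 1)]),
   (1, [(6, 1), (7, 1), (8, 1), (10, 1), (14, 1), (15, 1), (20, 1), (26, 1), (27, 1), (28, 1), (29, 1), (34, 1), (40, 1), (42, 1), (46, 1)]),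
   (1, [(0, 1), (5, 1), (8, 1), (10, 1), (14, 1), (15, 1), (21, 1), (25, 1), (28, 1), (29, 1), (34, 1), (40, 1), (42, 1), (46, 1)]),
   (1, [(5, 1), (6, 1), (8, 1), (10, 1), (11, 1), (13, 1), (15, 1), (17, 1), (18, 1), (19, 1), (20, 1), (26, 1), (30, 1), (31, 1), (32, 1), (33, 1), (38, 1)]),
   (0, [(2, 1), (8, 1), (12, 1), (18, 1)]),
   (1, [(2, 1), (3, 1), (5, 1), (6, 1), (8, 1), (10, 1), (12, 1), (13, 1), (15, 1), (17, 1), (18, 1), (19, 1), (26, 1), (30, 1), (31, 1), (32, 1), (33, 1), (38, 1)]),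
   (1, [(3, 1), (5, 1), (6, 1), (8, 1), (10, 1), (13, 1), (15, 1), (17, 1), (18, 1), (19, 1), (26, 1), (30, 1), (31, 1), (32, 1), (33, 1), (38, 1)]),
   (1, [(3, 1), (5, 1), (6, 1), (7, 1), (8, 1), (10, 1), (11, 1), (13, 1), (15, 1), (16, 1), (17, 1), (18, 1), (19, 1), (20, 1), (26, 1), (30, 1), (31, 1), (32, 1), (33, 1), (38, 1)]),
   (0, [(13, 1)]),
   (0, [(3, 1), (6, 1), (7, 1)]),
   (0, [(3, 1), (5, 1), (7, 1)]),
   (0, [(3, 1)]),
   (1, [(2, 1), (3, 1), (5, 1), (6, 1), (10, 1), (11, 1), (12, 1), (13, 1), (15, 1), (17, 1), (26, 1), (30, 1), (31, 1), (32, 1), (33, 1), (38, 1)]),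
   (0, [(3, 1), (7, 1), (10, 1)]),
   (0, [(3, 1), (7, 1), (11, 1)]),
   (0, [(3, 1), (7, 1)])]

def p2Sol : List (ℕ × List (ℕ × ℕ)) :=
  p2Sol_0

def p2Nf_0 : List (List ℕ) :=
  [[],
   [1],
   [3],
   [1, 3],
   [3, 6],
   [1, 3, 6],
   [1, 6],
   [6],
   [5],
   [1, 5],
   [3, 5, 6],
   [1, 3, 5, 6],
   [3, 5],
   [1, 3, 5],
   [1, 5, 6],
   [5, 6],
   [3, 6, 8],
   [1, 3, 6, 8],
   [1, 6, 8],
   [6, 8],
   [8],
   [1, 8],
   [3, 8],
   [1, 3, 8],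
   [3, 5, 8],
   [1, 3, 5, 8],
   [1, 5, 6, 8],
   [5, 6, 8],
   [5, 8],
   [1, 5, 8],
   [3, 5, 6, 8],
   [1, 3, 5, 6, 8],
   [3, 4],
   [1, 3, 4],
   [4],
   [1, 4],
   [4, 6],
   [1, 4, 6],
   [1, 3, 4, 6],
   [3, 4, 6],
   [3, 4, 5],
   [1, 3, 4, 5],
   [4, 5, 6],
   [1, 4, 5, 6],
   [4, 5],
   [1, 4, 5],
   [1, 3, 4, 5, 6],
   [3, 4, 5, 6],
   [4, 6, 8],
   [1, 4, 6, 8],
   [1, 3, 4, 6, 8],
   [3, 4, 6, 8],
   [3, 4, 8],
   [1, 3, 4, 8],
   [4, 8],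
   [1, 4, 8],
   [4, 5, 8],
   [1, 4, 5, 8],
   [1, 3, 4, 5, 6, 8],
   [3, 4, 5, 6, 8],
   [3, 4, 5, 8],
   [1, 3, 4, 5, 8],
   [4, 5, 6, 8],
   [1, 4, 5, 6, 8],
   [1, 2],
   [2],
   [1, 2, 3],
   [2, 3],
   [1, 2, 3, 6],
   [2, 3, 6],
   [2, 6],
   [1, 2, 6],
   [1, 2, 5],
   [2, 5],
   [1, 2, 3, 5, 6],
   [2, 3, 5, 6],
   [1, 2, 3, 5],
   [2, 3, 5],
   [2, 5, 6],
   [1, 2, 5, 6],
   [1, 2, 3, 6, 8],
   [2, 3, 6, 8],
   [2, 6, 8],
   [1, 2, 6, 8],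
   [1, 2, 8],
   [2, 8],
   [1, 2, 3, 8],
   [2, 3, 8],
   [1, 2, 3, 5, 8],
   [2, 3, 5, 8],
   [2, 5, 6, 8],
   [1, 2, 5, 6, 8],
   [1, 2, 5, 8],
   [2, 5, 8],
   [1, 2, 3, 5, 6, 8],
   [2, 3, 5, 6, 8],
   [5, 6, 7],
   [1, 5, 6, 7],
   [3, 5, 7, 8],
   [1, 3, 5, 7, 8]]

def p2Nf_1 : List (List ℕ) :=
  [[3, 5, 6, 7, 8],
   [1, 3, 5, 6, 7, 8],
   [1, 5, 7],
   [5, 7],
   [6, 7],
   [1, 6, 7],
   [3, 6, 7, 8],
   [1, 3, 6, 7, 8],
   [3, 7, 8],
   [1, 3, 7, 8],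
   [1, 7],
   [7],
   [3, 5, 6, 7],
   [1, 3, 5, 6, 7],
   [1, 5, 7, 8],
   [5, 7, 8],
   [5, 6, 7, 8],
   [1, 5, 6, 7, 8],
   [3, 5, 7],
   [1, 3, 5, 7],
   [3, 7],
   [1, 3, 7],
   [1, 7, 8],
   [7, 8],
   [6, 7, 8],
   [1, 6, 7, 8],
   [3, 6, 7],
   [1, 3, 6, 7],
   [0],
   [0, 1],
   [0, 3],
   [0, 1, 3],
   [0, 5],
   [0, 1, 5],
   [0, 3, 5, 6],
   [0, 1, 3, 5, 6],
   [0, 3, 5],
   [0, 1, 3, 5],
   [0, 1, 5, 6],
   [0, 5, 6],
   [0, 3, 6],
   [0, 1, 3, 6],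
   [0, 1, 6],
   [0, 6],
   [0, 1, 2, 3, 4, 6, 7],
   [0, 2, 3, 4, 6, 7],
   [0, 1, 2, 4, 6, 7, 8],
   [0, 2, 4, 6, 7, 8],
   [0, 1, 2, 3, 4, 5, 6, 7],
   [0, 2, 3, 4, 5, 6, 7],
   [0, 1, 2, 4, 5, 7, 8],
   [0, 2, 4, 5, 7, 8],
   [0, 1, 2, 4, 5, 6, 7, 8],
   [0, 2, 4, 5, 6, 7, 8],
   [0, 2, 3, 4, 5, 7],
   [0, 1, 2, 3, 4, 5, 7],
   [0, 1, 2, 4, 7, 8],
   [0, 2, 4, 7, 8],
   [0, 2, 3, 4, 7],
   [0, 1, 2, 3, 4, 7],
   [0, 3, 4],
   [0, 1, 3, 4],
   [0, 4],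
   [0, 1, 4],
   [0, 3, 4, 5],
   [0, 1, 3, 4, 5],
   [0, 4, 5, 6],
   [0, 1, 4, 5, 6],
   [0, 4, 5],
   [0, 1, 4, 5],
   [0, 1, 3, 4, 5, 6],
   [0, 3, 4, 5, 6],
   [0, 4, 6],
   [0, 1, 4, 6],
   [0, 1, 3, 4, 6],
   [0, 3, 4, 6],
   [0, 1, 2, 6, 7],
   [0, 2, 6, 7],
   [0, 1, 2, 3, 6, 7, 8],
   [0, 2, 3, 6, 7, 8],
   [0, 1, 2, 5, 6, 7],
   [0, 2, 5, 6, 7],
   [0, 1, 2, 3, 5, 7, 8],
   [0, 2, 3, 5, 7, 8],
   [0, 1, 2, 3, 5, 6, 7, 8],
   [0, 2, 3, 5, 6, 7, 8],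
   [0, 2, 5, 7],
   [0, 1, 2, 5, 7],
   [0, 1, 2, 3, 7, 8],
   [0, 2, 3, 7, 8],
   [0, 2, 7],
   [0, 1, 2, 7],
   [0, 3, 4, 5, 6, 7],
   [0, 1, 3, 4, 5, 6, 7],
   [0, 4, 5, 7, 8],
   [0, 1, 4, 5, 7, 8],
   [0, 3, 4, 6, 7],
   [0, 1, 3, 4, 6, 7],
   [0, 4, 6, 7, 8],
   [0, 1, 4, 6, 7, 8]]

def p2Nf_2 : List (List ℕ) :=
  [[0, 4, 7, 8],
   [0, 1, 4, 7, 8],
   [0, 1, 3, 4, 7],
   [0, 3, 4, 7],
   [0, 4, 5, 6, 7, 8],
   [0, 1, 4, 5, 6, 7, 8],
   [0, 1, 3, 4, 5, 7],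
   [0, 3, 4, 5, 7],
   [0, 1, 2, 5],
   [0, 2, 5],
   [0, 1, 2, 3, 5, 6],
   [0, 2, 3, 5, 6],
   [0, 1, 2],
   [0, 2],
   [0, 1, 2, 3],
   [0, 2, 3],
   [0, 1, 2, 3, 6],
   [0, 2, 3, 6],
   [0, 2, 6],
   [0, 1, 2, 6],
   [0, 1, 2, 3, 5],
   [0, 2, 3, 5],
   [0, 2, 5, 6],
   [0, 1, 2, 5, 6],
   [0, 1, 2, 3, 4, 5],
   [0, 2, 3, 4, 5],
   [0, 1, 2, 4, 5, 6],
   [0, 2, 4, 5, 6],
   [0, 1, 2, 3, 4],
   [0, 2, 3, 4],
   [0, 1, 2, 4],
   [0, 2, 4],
   [0, 1, 2, 4, 6],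
   [0, 2, 4, 6],
   [0, 2, 3, 4, 6],
   [0, 1, 2, 3, 4, 6],
   [0, 1, 2, 4, 5],
   [0, 2, 4, 5],
   [0, 2, 3, 4, 5, 6],
   [0, 1, 2, 3, 4, 5, 6],
   [0, 5, 6, 7],
   [0, 1, 5, 6, 7],
   [0, 3, 5, 7, 8],
   [0, 1, 3, 5, 7, 8],
   [0, 6, 7],
   [0, 1, 6, 7],
   [0, 3, 6, 7, 8],
   [0, 1, 3, 6, 7, 8],
   [0, 3, 7, 8],
   [0, 1, 3, 7, 8],
   [0, 1, 7],
   [0, 7],
   [0, 3, 5, 6, 7, 8],
   [0, 1, 3, 5, 6, 7, 8],
   [0, 1, 5, 7],
   [0, 5, 7],
   [1, 2, 3, 4],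
   [2, 3, 4],
   [1, 2, 4],
   [2, 4],
   [1, 2, 4, 6],
   [2, 4, 6],
   [2, 3, 4, 6],
   [1, 2, 3, 4, 6],
   [1, 2, 3, 4, 5],
   [2, 3, 4, 5],
   [1, 2, 4, 5, 6],
   [2, 4, 5, 6],
   [1, 2, 4, 5],
   [2, 4, 5],
   [2, 3, 4, 5, 6],
   [1, 2, 3, 4, 5, 6],
   [1, 2, 4, 6, 8],
   [2, 4, 6, 8],
   [2, 3, 4, 6, 8],
   [1, 2, 3, 4, 6, 8],
   [1, 2, 3, 4, 8],
   [2, 3, 4, 8],
   [1, 2, 4, 8],
   [2, 4, 8],
   [1, 2, 4, 5, 8],
   [2, 4, 5, 8],
   [2, 3, 4, 5, 6, 8],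
   [1, 2, 3, 4, 5, 6, 8],
   [1, 2, 3, 4, 5, 8],
   [2, 3, 4, 5, 8],
   [1, 2, 4, 5, 6, 8],
   [2, 4, 5, 6, 8],
   [3, 4, 5, 6, 7],
   [1, 3, 4, 5, 6, 7],
   [4, 5, 7, 8],
   [1, 4, 5, 7, 8],
   [4, 5, 6, 7, 8],
   [1, 4, 5, 6, 7, 8],
   [1, 3, 4, 5, 7],
   [3, 4, 5, 7],
   [3, 4, 6, 7],
   [1, 3, 4, 6, 7],
   [4, 6, 7, 8],
   [1, 4, 6, 7, 8]]

def p2Nf_3 : List (List ℕ) :=
  [[4, 7, 8],
   [1, 4, 7, 8],
   [1, 3, 4, 7],
   [3, 4, 7],
   [4, 5, 6, 7],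
   [1, 4, 5, 6, 7],
   [1, 3, 4, 5, 7, 8],
   [3, 4, 5, 7, 8],
   [3, 4, 5, 6, 7, 8],
   [1, 3, 4, 5, 6, 7, 8],
   [4, 5, 7],
   [1, 4, 5, 7],
   [4, 7],
   [1, 4, 7],
   [1, 3, 4, 7, 8],
   [3, 4, 7, 8],
   [3, 4, 6, 7, 8],
   [1, 3, 4, 6, 7, 8],
   [4, 6, 7],
   [1, 4, 6, 7],
   [1, 2, 5, 6, 7],
   [2, 5, 6, 7],
   [1, 2, 3, 5, 7, 8],
   [2, 3, 5, 7, 8],
   [1, 2, 3, 5, 6, 7, 8],
   [2, 3, 5, 6, 7, 8],
   [2, 5, 7],
   [1, 2, 5, 7],
   [1, 2, 6, 7],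
   [2, 6, 7],
   [1, 2, 3, 6, 7, 8],
   [2, 3, 6, 7, 8],
   [1, 2, 3, 7, 8],
   [2, 3, 7, 8],
   [2, 7],
   [1, 2, 7],
   [1, 2, 3, 5, 6, 7],
   [2, 3, 5, 6, 7],
   [2, 5, 7, 8],
   [1, 2, 5, 7, 8],
   [1, 2, 5, 6, 7, 8],
   [2, 5, 6, 7, 8],
   [1, 2, 3, 5, 7],
   [2, 3, 5, 7],
   [1, 2, 3, 7],
   [2, 3, 7],
   [2, 7, 8],
   [1, 2, 7, 8],
   [1, 2, 6, 7, 8],
   [2, 6, 7, 8],
   [1, 2, 3, 6, 7],
   [2, 3, 6, 7],
   [1, 2, 3, 4, 5, 6, 7],
   [2, 3, 4, 5, 6, 7],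
   [1, 2, 4, 5, 7, 8],
   [2, 4, 5, 7, 8],
   [1, 2, 4, 5, 6, 7, 8],
   [2, 4, 5, 6, 7, 8],
   [2, 3, 4, 5, 7],
   [1, 2, 3, 4, 5, 7],
   [1, 2, 3, 4, 6, 7],
   [2, 3, 4, 6, 7],
   [1, 2, 4, 6, 7, 8],
   [2, 4, 6, 7, 8],
   [1, 2, 4, 7, 8],
   [2, 4, 7, 8],
   [2, 3, 4, 7],
   [1, 2, 3, 4, 7],
   [1, 2, 4, 5, 6, 7],
   [2, 4, 5, 6, 7],
   [2, 3, 4, 5, 7, 8],
   [1, 2, 3, 4, 5, 7, 8],
   [1, 2, 3, 4, 5, 6, 7, 8],
   [2, 3, 4, 5, 6, 7, 8],
   [1, 2, 4, 5, 7],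
   [2, 4, 5, 7],
   [1, 2, 4, 7],
   [2, 4, 7],
   [2, 3, 4, 7, 8],
   [1, 2, 3, 4, 7, 8],
   [1, 2, 3, 4, 6, 7, 8],
   [2, 3, 4, 6, 7, 8],
   [1, 2, 4, 6, 7],
   [2, 4, 6, 7],
   [0, 1, 2, 4, 5, 8],
   [0, 2, 4, 5, 8],
   [0, 2, 3, 4, 5, 6, 8],
   [0, 1, 2, 3, 4, 5, 6, 8],
   [0, 1, 2, 4, 6, 8],
   [0, 2, 4, 6, 8],
   [0, 2, 3, 4, 6, 8],
   [0, 1, 2, 3, 4, 6, 8],
   [0, 1, 2, 3, 4, 8],
   [0, 2, 3, 4, 8],
   [0, 1, 2, 4, 8],
   [0, 2, 4, 8],
   [0, 1, 2, 3, 4, 5, 8],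
   [0, 2, 3, 4, 5, 8],
   [0, 1, 2, 4, 5, 6, 8],
   [0, 2, 4, 5, 6, 8]]

def p2Nf_4 : List (List ℕ) :=
  [[0, 3, 5, 6, 7],
   [0, 1, 3, 5, 6, 7],
   [0, 1, 5, 7, 8],
   [0, 5, 7, 8],
   [0, 3, 7],
   [0, 1, 3, 7],
   [0, 1, 7, 8],
   [0, 7, 8],
   [0, 6, 7, 8],
   [0, 1, 6, 7, 8],
   [0, 3, 6, 7],
   [0, 1, 3, 6, 7],
   [0, 5, 6, 7, 8],
   [0, 1, 5, 6, 7, 8],
   [0, 3, 5, 7],
   [0, 1, 3, 5, 7],
   [0, 4, 5, 6, 7],
   [0, 1, 4, 5, 6, 7],
   [0, 1, 3, 4, 5, 7, 8],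
   [0, 3, 4, 5, 7, 8],
   [0, 4, 7],
   [0, 1, 4, 7],
   [0, 1, 3, 4, 7, 8],
   [0, 3, 4, 7, 8],
   [0, 3, 4, 6, 7, 8],
   [0, 1, 3, 4, 6, 7, 8],
   [0, 4, 6, 7],
   [0, 1, 4, 6, 7],
   [0, 3, 4, 5, 6, 7, 8],
   [0, 1, 3, 4, 5, 6, 7, 8],
   [0, 4, 5, 7],
   [0, 1, 4, 5, 7],
   [0, 1, 2, 3, 5, 8],
   [0, 2, 3, 5, 8],
   [0, 2, 5, 6, 8],
   [0, 1, 2, 5, 6, 8],
   [0, 1, 2, 3, 6, 8],
   [0, 2, 3, 6, 8],
   [0, 2, 6, 8],
   [0, 1, 2, 6, 8],
   [0, 1, 2, 8],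
   [0, 2, 8],
   [0, 1, 2, 3, 8],
   [0, 2, 3, 8],
   [0, 1, 2, 5, 8],
   [0, 2, 5, 8],
   [0, 1, 2, 3, 5, 6, 8],
   [0, 2, 3, 5, 6, 8],
   [0, 4, 6, 8],
   [0, 1, 4, 6, 8],
   [0, 1, 3, 4, 6, 8],
   [0, 3, 4, 6, 8],
   [0, 4, 5, 8],
   [0, 1, 4, 5, 8],
   [0, 1, 3, 4, 5, 6, 8],
   [0, 3, 4, 5, 6, 8],
   [0, 3, 4, 5, 8],
   [0, 1, 3, 4, 5, 8],
   [0, 4, 5, 6, 8],
   [0, 1, 4, 5, 6, 8],
   [0, 3, 4, 8],
   [0, 1, 3, 4, 8],
   [0, 4, 8],
   [0, 1, 4, 8],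
   [0, 1, 2, 3, 7],
   [0, 2, 3, 7],
   [0, 2, 7, 8],
   [0, 1, 2, 7, 8],
   [0, 1, 2, 3, 5, 6, 7],
   [0, 2, 3, 5, 6, 7],
   [0, 2, 5, 7, 8],
   [0, 1, 2, 5, 7, 8],
   [0, 1, 2, 5, 6, 7, 8],
   [0, 2, 5, 6, 7, 8],
   [0, 1, 2, 3, 5, 7],
   [0, 2, 3, 5, 7],
   [0, 1, 2, 6, 7, 8],
   [0, 2, 6, 7, 8],
   [0, 1, 2, 3, 6, 7],
   [0, 2, 3, 6, 7],
   [0, 3, 6, 8],
   [0, 1, 3, 6, 8],
   [0, 1, 6, 8],
   [0, 6, 8],
   [0, 3, 5, 8],
   [0, 1, 3, 5, 8],
   [0, 1, 5, 6, 8],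
   [0, 5, 6, 8],
   [0, 5, 8],
   [0, 1, 5, 8],
   [0, 3, 5, 6, 8],
   [0, 1, 3, 5, 6, 8],
   [0, 8],
   [0, 1, 8],
   [0, 3, 8],
   [0, 1, 3, 8],
   [0, 1, 2, 4, 7],
   [0, 2, 4, 7],
   [0, 2, 3, 4, 7, 8],
   [0, 1, 2, 3, 4, 7, 8]]

def p2Nf_5 : List (List ℕ) :=
  [[0, 1, 2, 4, 5, 6, 7],
   [0, 2, 4, 5, 6, 7],
   [0, 2, 3, 4, 5, 7, 8],
   [0, 1, 2, 3, 4, 5, 7, 8],
   [0, 1, 2, 3, 4, 5, 6, 7, 8],
   [0, 2, 3, 4, 5, 6, 7, 8],
   [0, 1, 2, 4, 5, 7],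
   [0, 2, 4, 5, 7],
   [0, 1, 2, 3, 4, 6, 7, 8],
   [0, 2, 3, 4, 6, 7, 8],
   [0, 1, 2, 4, 6, 7],
   [0, 2, 4, 6, 7]]

def p2Nf : List (List ℕ) :=
  p2Nf_0 ++ p2Nf_1 ++ p2Nf_2 ++ p2Nf_3 ++ p2Nf_4 ++ p2Nf_5

/-- The certificate at 2. -/
def cert2 : CfsgLib.SchurCert.GCert :=
  ⟨2, 9, p2Rels, p2Eqs, p2D, [0, 0, 0, 0, 0, 0, 0, 0, 0, 0, 0, 0, 0, 0, 0, 0, 0, 0, 0, 0, 0, 0, 0, 0, 0, 0, 0, 0, 0, 0, 0, 0, 0, 0, 0, 0, 0, 0, 0, 0, 0, 0, 0, 0, 0, 0, 0, 0, 0, 0, 0, 0, 0, 0, 0, 0, 0, 0, 0, 0, 0, 0, 0, 0, 0, 0, 0, 0, 1], p2Sol, p2Nf⟩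

def p2Four : List (ℕ × ℕ) := [(1, 1), (2, 2), (3, 2), (12, 2), (13, 2), (15, 2), (17, 2), (26, 2), (30, 2), (31, 2), (32, 2)]

def p3Gens : List (List ℕ) :=
  [[7, 28, 45, 16, 40, 24],
   [1, 17, 37, 14, 19, 4],
   [3, 39, 63, 20, 5, 62],
   [60, 44, 29, 43, 19, 24],
   [12, 2, 4, 5, 20, 47],
   [27, 49, 22, 12, 53, 28]]

def p3Rels_0 : List (List ℕ × List ℕ) :=
  [([0, 0, 0], []),
   ([1, 0], [0, 1, 2, 2, 3]),
   ([1, 1, 1], []),
   ([2, 0], [0, 2]),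
   ([2, 1], [1, 2, 3, 3]),
   ([2, 2, 2], []),
   ([3, 0], [0, 3]),
   ([3, 1], [1, 3]),
   ([3, 2], [2, 3]),
   ([3, 3, 3], []),
   ([4, 0, 0, 1, 1, 2, 2, 3, 3], [0, 1, 1, 2, 2, 3, 4]),
   ([4, 1, 1, 3], [1, 1, 2, 3, 3, 4]),
   ([4, 2, 2], [2, 4]),
   ([4, 3], [3, 3, 4]),
   ([5, 0, 0, 1, 1, 2, 2, 3, 3], [0, 1, 2, 3, 3, 5]),
   ([5, 1, 1, 3], [1, 2, 5]),
   ([5, 2, 2], [2, 2, 3, 3, 5]),
   ([5, 3], [3, 3, 5])]

def p3Rels : List (List ℕ × List ℕ) :=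
  p3Rels_0

def p3Eqs_0 : List (List ℕ × List Step × List Step) :=
  [([4, 2, 2, 2, 2, 2, 2], [(12, false, 0), (12, false, 1), (12, false, 2), (5, false, 0)], [(5, false, 1), (5, false, 1)]),
   ([4, 3, 3, 3], [(13, false, 0), (13, false, 2), (13, false, 4), (9, false, 0), (9, false, 0)], [(9, false, 1)]),
   ([3, 1, 0], [(7, false, 0), (6, false, 1), (1, false, 0)], [(1, false, 1), (6, false, 0), (7, false, 1), (8, false, 2), (8, false, 3)]),
   ([4, 3, 1, 1, 3], [(13, false, 0), (11, false, 2), (7, false, 1), (7, false, 0), (7, false, 2), (7, false, 1), (8, false, 3), (8, false, 2), (9, false, 3)], [(7, false, 1), (7, false, 2), (11, false, 0), (13, false, 5), (9, false, 3)]),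
   ([2, 1, 0], [(4, false, 0), (6, false, 3), (6, false, 2), (3, false, 1), (1, false, 0), (8, false, 4), (5, false, 2), (9, false, 2)], [(1, false, 1), (3, false, 0), (4, false, 1), (8, false, 4), (8, false, 3), (8, false, 5), (8, false, 4), (5, false, 2), (9, false, 2)]),
   ([5, 1, 1, 3, 1, 1, 3, 1, 1, 3], [(15, false, 0), (15, false, 2), (15, false, 4), (4, false, 1), (8, false, 4), (8, false, 3), (7, false, 5), (7, false, 4), (4, false, 3), (4, false, 2), (2, false, 0), (8, false, 2), (8, false, 1), (9, false, 2), (9, false, 2), (5, false, 0)], [(7, false, 3), (2, false, 1), (7, false, 1), (7, false, 3), (7, false, 2), (7, false, 4), (7, false, 3), (2, false, 1), (9, false, 1)]),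
   ([5, 2, 2, 1, 1, 3], [(16, false, 0), (15, false, 4), (7, false, 3), (7, false, 2), (4, false, 1), (4, false, 0), (8, false, 3), (8, false, 2), (9, false, 3), (9, false, 3), (5, false, 1)], [(4, false, 2), (4, false, 1), (8, false, 4), (8, false, 3), (9, false, 4), (7, false, 4), (4, false, 3), (4, false, 2), (8, false, 5), (8, false, 4), (9, false, 5), (9, false, 5), (9, true, 5), (8, true, 4), (8, true, 3), (15, false, 0), (16, false, 2), (17, false, 6), (17, false, 8), (5, false, 1), (9, false, 1), (9, false, 1)]),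
   ([5, 2, 2, 0, 0, 1, 1, 2, 2, 3, 3], [(16, false, 0), (14, false, 4), (6, false, 3), (6, false, 2), (3, false, 1), (3, false, 0), (7, false, 4), (7, false, 3), (4, false, 2), (4, false, 1), (8, false, 4), (8, false, 3), (9, false, 4), (9, false, 4), (5, false, 2)], [(3, false, 2), (3, false, 1), (3, false, 3), (3, false, 2), (4, false, 4), (4, false, 3), (8, false, 6), (8, false, 5), (9, false, 6), (7, false, 6), (4, false, 5), (4, false, 4), (8, false, 7), (8, false, 6), (9, false, 7), (8, false, 8), (8, false, 7), (5, false, 5), (8, false, 6), (8, false, 5), (9, false, 6), (9, true, 6), (8, true, 5), (8, true, 6), (5, true, 5), (8, true, 7), (8, true, 8), (14, false, 0), (16, false, 5), (17, false, 9), (17, false, 11), (8, false, 4), (8, false, 3), (8, false, 5), (8, false, 4), (5, false, 2), (9, false, 2), (9, false, 2)]),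
   ([5, 0, 0, 1, 1, 2, 2, 3, 3, 0, 0, 1, 1, 2, 2, 3, 3, 0, 0, 1, 1, 2, 2, 3, 3], [(14, false, 0), (14, false, 5), (14, false, 10), (6, false, 4), (6, false, 3), (3, false, 2), (1, false, 1), (8, false, 5), (5, false, 3), (9, false, 3), (6, false, 6), (6, false, 5), (3, false, 4), (1, false, 3), (1, false, 2), (0, false, 0), (7, false, 3), (4, false, 2), (4, false, 1), (8, false, 4), (8, false, 3), (9, false, 4), (8, false, 5), (8, false, 4), (5, false, 2), (8, false, 3), (8, false, 2), (9, false, 3), (7, false, 5), (7, false, 4), (4, false, 3), (4, false, 2), (2, false, 0), (8, false, 2), (8, false, 1), (9, false, 2), (9, false, 2), (5, false, 0)], [(6, false, 8), (6, false, 7), (3, false, 6), (3, false, 5), (1, false, 4), (1, false, 3), (0, false, 1), (7, false, 4), (4, false, 3), (4, false, 2), (8, false, 5), (8, false, 4), (9, false, 5), (8, false, 6), (8, false, 5), (5, false, 3), (8,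 false, 4), (8, false, 3), (9, false, 4), (5, false, 3), (6, false, 4), (6, false, 3), (1, false, 2), (1, false, 1), (7, false, 5), (4, false, 4), (4, false, 3), (8, false, 6), (8, false, 5), (9, false, 6), (8, false, 7), (8, false, 6), (5, false, 4), (8, false, 5), (8, false, 4), (9, false, 5), (7, false, 6), (7, false, 5), (4, false, 4), (2, false, 2), (9, false, 3), (7, false, 3), (4, false, 2), (9, false, 4), (5, false, 3), (6, false, 4), (6, false, 3), (1, false, 2), (9, false, 6), (3, false, 5), (3, false, 4), (1, false, 3), (0, false, 1), (8, false, 4), (5, false, 2), (8, false, 2), (7, false, 3), (4, false, 2), (9, false, 4), (4, false, 3), (2, false, 1), (8, false, 3), (8, false, 2), (8, false, 4), (8, false, 3), (5, false, 1), (9, false, 1), (17, false, 0)]),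
   ([4, 1, 1, 3, 0, 0, 1, 1, 2, 2, 3, 3], [(11, false, 0), (10, false, 5), (6, false, 4), (6, false, 3), (3, false, 2), (1, false, 1), (1, false, 0), (7, false, 4), (4, false, 3), (4, false, 2), (8, false, 5), (8, false, 4), (9, false, 5), (8, false, 6), (8, false, 5), (5, false, 3), (8, false, 4), (8, false, 3), (9, false, 4), (7, false, 6), (7, false, 5), (4, false, 4), (4, false, 3), (2, false, 1), (8, false, 3), (8, false, 2), (9, false, 3), (9, false, 3), (4, false, 2), (4, false, 1), (8, false, 4), (8, false, 3), (9, false, 4), (8, false, 4), (5, false, 2), (8, false, 2)], [(6, false, 3), (1, false, 2), (1, false, 1), (7, false, 5), (4, false, 4), (4, false, 3), (8, false, 6), (8, false, 5), (9, false, 6), (8, false, 7), (8, false, 6), (5, false, 4), (8, false, 5), (8, false, 4), (9, false, 5), (6, false, 5), (3, false, 4), (1, false, 3), (1, false, 2), (7, false, 6), (4, false, 5),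 (4, false, 4), (8, false, 7), (8, false, 6), (9, false, 7), (8, false, 8), (8, false, 7), (5, false, 5), (8, false, 6), (8, false, 5), (9, false, 6), (7, false, 7), (4, false, 6), (4, false, 5), (2, false, 3), (8, false, 5), (8, false, 4), (9, false, 5), (7, false, 6), (7, false, 5), (4, false, 4), (4, false, 3), (8, false, 6), (8, false, 5), (9, false, 6), (9, false, 6), (5, false, 4), (8, true, 4), (8, true, 5), (5, true, 4), (8, true, 6), (8, true, 7), (9, true, 6), (8, true, 5), (8, true, 6), (4, true, 3), (4, true, 4), (9, true, 5), (9, true, 5), (8, true, 4), (8, true, 5), (2, true, 3), (4, true, 5), (4, true, 6), (7, true, 7), (7, true, 8), (10, false, 0), (11, false, 6), (12, false, 11), (7, false, 5), (4, false, 4), (4, false, 3), (2, false, 1), (8, false, 3), (8, false, 2), (9, false, 3), (7, false, 4), (7, false, 3), (4, false, 2), (4, false, 1), (8, false, 4), (8, false, 3),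 (9, false, 4), (9, false, 4), (5, false, 2), (8, false, 3), (8, false, 2)])]

def p3Eqs : List (List ℕ × List Step × List Step) :=
  p3Eqs_0

def p3D_0 : List (List ℕ) :=
  [[0, 0, 0, 0, 0, 0, 0, 0, 0, 0, 0, 0, 0, 0, 0, 0, 0, 0],
   [0, 0, 0, 0, 0, 0, 0, 0, 0, 0, 0, 0, 0, 0, 0, 0, 0, 0],
   [0, 0, 0, 0, 0, 0, 0, 0, 0, 0, 0, 0, 2, 0, 0, 0, 0, 0],
   [0, 0, 0, 0, 0, 0, 0, 0, 0, 0, 0, 0, 0, 0, 0, 0, 0, 1]]

def p3D : List (List ℕ) :=
  p3D_0

def p3Sol_0 : List (ℕ × List (ℕ × ℕ)) :=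
  [(0, [(0, 1), (1, 2), (3, 1), (4, 1), (5, 1), (6, 1), (7, 1), (8, 2)]),
   (0, [(0, 2), (2, 1), (3, 2), (6, 2), (9, 1)]),
   (0, [(0, 2), (1, 1), (2, 2), (3, 1), (5, 2)]),
   (0, [(4, 2), (6, 2), (7, 1)]),
   (0, [(1, 2), (2, 1), (3, 1), (6, 1)]),
   (0, [(0, 2)]),
   (0, [(4, 2)]),
   (0, [(2, 2), (3, 2)]),
   (0, [(2, 1)]),
   (0, [(1, 1)])]

def p3Sol : List (ℕ × List (ℕ × ℕ)) :=
  p3Sol_0

def p3Nf_0 : List (List ℕ) :=
  [[],
   [1],
   [1, 1],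
   [1, 2, 3, 3],
   [1, 1, 2, 3],
   [2],
   [1, 1, 2, 2],
   [1, 2, 2, 3, 3],
   [2, 2, 3],
   [0],
   [0, 1],
   [0, 1, 1],
   [0, 0, 1, 2],
   [0, 0, 1, 1, 2, 3, 3],
   [0, 0, 2, 3],
   [0, 1, 3, 3],
   [0, 1, 1, 3, 3],
   [0, 3, 3],
   [0, 0, 1, 1, 3, 3],
   [0, 0, 3, 3],
   [0, 0, 1, 3, 3],
   [0, 1, 1, 3],
   [0, 3],
   [0, 1, 3],
   [0, 0, 2, 2, 3, 3],
   [0, 0, 1, 1, 2, 2, 3],
   [0, 0, 1, 2, 2],
   [2, 3],
   [1, 2],
   [1, 1, 2, 3, 3],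
   [1, 1, 2],
   [2, 3, 3],
   [1, 2, 3],
   [0, 0, 1, 2, 2, 3, 3],
   [0, 0, 1, 1, 2, 2],
   [0, 0, 2, 2, 3],
   [0, 0, 1, 1, 2, 2, 3, 3],
   [0, 0, 1, 2, 2, 3],
   [0, 0, 2, 2],
   [0, 1, 1, 2, 3],
   [0, 2],
   [0, 1, 2, 3, 3],
   [0, 1, 1, 2, 2, 3],
   [0, 2, 2, 3, 3],
   [0, 1, 2, 2],
   [2, 2, 3, 3],
   [1, 1, 2, 2, 3],
   [1, 2, 2],
   [0, 0, 1, 1, 2, 3],
   [0, 0, 1, 2, 3, 3],
   [0, 0, 2],
   [1, 2, 2, 3],
   [1, 1, 2, 2, 3, 3],
   [2, 2],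
   [0, 2, 3],
   [0, 1, 1, 2, 3, 3],
   [0, 1, 2],
   [0, 1, 2, 2, 3, 3],
   [0, 2, 2, 3],
   [0, 1, 1, 2, 2],
   [0, 0, 2, 3, 3],
   [0, 0, 1, 2, 3],
   [0, 0, 1, 1, 2],
   [0, 1, 2, 3],
   [0, 1, 1, 2],
   [0, 2, 3, 3],
   [0, 2, 2],
   [0, 1, 2, 2, 3],
   [0, 1, 1, 2, 2, 3, 3],
   [0, 0],
   [0, 0, 1, 1],
   [0, 0, 1],
   [0, 0, 1, 3],
   [0, 0, 1, 1, 3],
   [0, 0, 3],
   [3],
   [1, 3],
   [1, 1, 3],
   [1, 1, 3, 3],
   [3, 3],
   [1, 3, 3]]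

def p3Nf : List (List ℕ) :=
  p3Nf_0

/-- The certificate at 3. -/
def cert3 : CfsgLib.SchurCert.GCert :=
  ⟨3, 4, p3Rels, p3Eqs, p3D, [], p3Sol, p3Nf⟩

end CfsgLib.SpSixTwo
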